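/-
`c` polynomials over a field cutting out dimension `n - c` define a flat map to affine `c`-space.
-/
import Groth.Agent.RegLoc.Miracle
import Groth.Agent.CycLib.DimFormula
import Groth.Agent.Depth.CM
import Groth.Agent.VarDim.Algebra
import Mathlib.RingTheory.RegularLocalRing.Polynomial
import Mathlib.RingTheory.Jacobson.Ring
import Mathlib.RingTheory.RingHom.Flat
import Mathlib.RingTheory.Ideal.KrullsHeightTheorem

open MvPolynomial IsLocalRing

universe u

namespace Groth.Agent.RelGCI

variable {k : Type u} [Field k] {n c : ℕ}

theorem flat_field (hc : c ≤ n) (f : ULift.{u} (Fin c) → MvPolynomial (Fin n) k)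
    (q : Ideal (MvPolynomial (Fin n) k)) [q.IsPrime] (hfq : ∀ i, f i ∈ q)
    (hdim : ringKrullDim (MvPolynomial (Fin n) k ⧸ Ideal.span (Set.range f)) ≤ ((n - c : ℕ) : WithBot ℕ∞)) :
    ((algebraMap (MvPolynomial (Fin n) k) (Localization.AtPrime q)).comp
      (aeval f : MvPolynomial (ULift.{u} (Fin c)) k →ₐ[k] MvPolynomial (Fin n) k).toRingHom).Flat := by
  classical
  obtain ⟨M, hM, hqM⟩ := Ideal.exists_le_maximal q (Ideal.IsPrime.ne_top inferInstance)
  let P := MvPolynomial (Fin n) k
  let B := MvPolynomial (ULift.{u} (Fin c)) k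
  let φ := (aeval f : B →ₐ[k] P).toRingHom
  let Q0 : Ideal B := M.comap φ
  have hdec : ∀ p : B, p - C (constantCoeff p) ∈
      Ideal.span (Set.range (X : ULift.{u} (Fin c) → B)) := by
    intro p
    induction p using MvPolynomial.induction_on with
    | C c => simp
    | add p p' hp hp' =>
      rw [map_add, map_add]
      convert Ideal.add_mem _ hp hp' using 1
      ring
    | mul_X p i hp =>
      simp only [map_mul, constantCoeff_X, mul_zero, map_zero, sub_zero]
      exact Ideal.mul_mem_left _ p (Ideal.subset_span (Set.mem_range_self i))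
  have hXQ : Ideal.span (Set.range (X : ULift.{u} (Fin c) → B)) ≤ Q0 := by
    rw [Ideal.span_le]
    rintro _ ⟨i, rfl⟩
    change φ (X i) ∈ M
    simpa [φ] using hqM (hfq i)
  have hspan : ∀ J : Ideal B, J ≠ ⊤ →
      Ideal.span (Set.range X) ≤ J → J = Ideal.span (Set.range X) := by
    intro J hJ hXJ
    refine le_antisymm (fun p hp => ?_) hXJ
    have hc : C (constantCoeff p) ∈ J := by
      have := J.sub_mem hp (hXJ (hdec p))
      simpa using this
    have h0 : constantCoeff p = 0 := by
      by_contra h
      exact hJ (Ideal.eq_top_of_isUnit_mem _ hc ((Ne.isUnit h).map C))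
    simpa [h0] using hdec p
  have hQ0 : Q0 = Ideal.span (Set.range X) := hspan Q0 (Ideal.IsPrime.ne_top inferInstance) hXQ
  have hQ0m : Q0.IsMaximal := by
    obtain ⟨N, hN, hle⟩ := Ideal.exists_le_maximal Q0 (Ideal.IsPrime.ne_top inferInstance)
    rwa [hQ0, ← hspan N hN.ne_top (hXQ.trans hle)]
  let R := Localization.AtPrime Q0
  let S := Localization.AtPrime M
  let ψ : R →+* S := Localization.localRingHom Q0 M φ rfl
  let : Algebra R S := ψ.toAlgebra
  have : IsLocalHom (algebraMap R S) := Localization.isLocalHom_localRingHom Q0 M φ rfl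
  have : IsRegularLocalRing R := IsRegularRing.isRegularLocalRing_localization Q0
  have : IsRegularLocalRing S := IsRegularRing.isRegularLocalRing_localization M
  have := Depth.isCohenMacaulayLocalRing_of_isRegularLocalRing (R := S)
  let I := Ideal.span (Set.range f)
  have hmap : (maximalIdeal R).map (algebraMap R S) = I.map (algebraMap _ S) := by
    rw [← IsLocalization.AtPrime.map_eq_maximalIdeal Q0 R, Ideal.map_map,
      (congrArg (Ideal.map ((algebraMap R S).comp (algebraMap _ R))) hQ0 :), Ideal.map_span,
      Ideal.map_span, ← Set.range_comp, ← Set.range_comp]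
    congr 2
    funext i
    simp [ψ, φ, P, B, RingHom.algebraMap_toAlgebra, Localization.localRingHom_to_map, S, R]
  have hRdim : ringKrullDim R = c := by
    rw [IsLocalization.AtPrime.ringKrullDim_eq_height Q0 R]
    let e := (renameEquiv k (Equiv.ulift.{u} (α := Fin c))).toRingEquiv
    have h1 : (Q0.comap e.symm.toRingHom).IsMaximal :=
      Ideal.comap_isMaximal_of_surjective _ e.symm.surjective
    have h2 := VarDim.height_eq_of_isMaximal_mvPolynomial k c _ h1
    rw [show Q0.comap e.symm.toRingHom = Q0.comap (e.symm : _ ≃+* _) from rfl,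
      RingEquiv.height_comap] at h2
    rw [h2]
    rfl
  have hSdim : ringKrullDim S = n := by
    rw [IsLocalization.AtPrime.ringKrullDim_eq_height M S,
      VarDim.height_eq_of_isMaximal_mvPolynomial k n M hM]
    rfl
  have hIS : I.map (algebraMap P S) ≤ maximalIdeal S := by
    rw [← IsLocalization.AtPrime.map_eq_maximalIdeal M S]
    exact Ideal.map_mono (Ideal.span_le.2 (by rintro _ ⟨i, rfl⟩; exact hqM (hfq i)))
  have hquot : ringKrullDim (S ⧸ I.map (algebraMap P S)) ≤ ((n - c : ℕ) : WithBot ℕ∞) := by
    refine le_trans ?_ hdim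
    let g : P ⧸ I →+* S ⧸ I.map (algebraMap P S) :=
      Ideal.quotientMap _ (algebraMap P S) Ideal.le_comap_map
    have hinj : Function.Injective (PrimeSpectrum.comap (R := P ⧸ I) (S := S ⧸ I.map (algebraMap P S)) g) := by
      have h1 : Function.Injective (PrimeSpectrum.comap (R := P) (S := S ⧸ I.map (algebraMap P S))
          ((Ideal.Quotient.mk (I.map (algebraMap P S))).comp (algebraMap P S))) := by
        rw [PrimeSpectrum.comap_comp]
        exact (PrimeSpectrum.localization_comap_injective S M.primeCompl).comp
          (PrimeSpectrum.comap_injective_of_surjective _ Ideal.Quotient.mk_surjective)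
      rw [show (Ideal.Quotient.mk (I.map (algebraMap P S))).comp (algebraMap P S) =
        g.comp (Ideal.Quotient.mk I) from rfl, PrimeSpectrum.comap_comp] at h1
      exact Function.Injective.of_comp h1
    refine Order.krullDim_le_of_strictMono (PrimeSpectrum.comap (R := P ⧸ I) (S := S ⧸ I.map (algebraMap P S)) g) ?_
    exact Monotone.strictMono_of_injective (fun x y hxy => Ideal.comap_mono hxy) hinj
  have hlow : (n : WithBot ℕ∞) ≤ ringKrullDim (S ⧸ I.map (algebraMap P S)) + c := by
    rw [← hSdim]
    refine (ringKrullDim_le_ringKrullDim_quotient_add_spanFinrank _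
      (hIS.trans (IsLocalRing.ringJacobson_eq_maximalIdeal S).ge)).trans ?_
    gcongr
    have : Ideal.map (algebraMap P S) I =
        Ideal.span (Set.range fun i => algebraMap P S (f i)) := by
      rw [Ideal.map_span, ← Set.range_comp]; rfl
    rw [this]
    exact_mod_cast (Submodule.spanFinrank_span_le_ncard_of_finite (Set.finite_range _)).trans
      ((Finite.card_range_le _).trans (by simp))
  have hfib : ringKrullDim (S ⧸ I.map (algebraMap P S)) = ((n - c : ℕ) : WithBot ℕ∞) := by
    refine le_antisymm hquot ?_
    revert hlow hquot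
    generalize ringKrullDim (S ⧸ I.map (algebraMap P S)) = d
    intro hquot hlow
    induction d with
    | bot => simp at hlow
    | coe d =>
      induction d with
      | top =>
        exact le_top
      | coe d =>
        have h' : n ≤ d + c := by exact_mod_cast hlow
        have : n - c ≤ d := by omega
        exact WithBot.coe_le_coe.2 (Nat.cast_le.2 this)
  have hd : ringKrullDim S = ringKrullDim R + ringKrullDim (S ⧸ (maximalIdeal R).map (algebraMap R S)) := by
    rw [hmap, hfib, hRdim, hSdim, ← Nat.cast_add]
    congr 1
    omega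
  have hflat : Module.Flat R S := RegLoc.Miracle.flat_of_ringKrullDim_eq_add hd
  have h1 : (algebraMap B R).Flat :=
    RingHom.flat_algebraMap_iff.2 (IsLocalization.flat R Q0.primeCompl)
  have h2 := RingHom.Flat.comp h1 (show ψ.Flat from hflat)
  let ρ : S →+* Localization.AtPrime q := IsLocalization.lift (M := M.primeCompl)
    (g := algebraMap P (Localization.AtPrime q)) fun y =>
      IsLocalization.map_units _ (⟨y, fun hy => y.2 (hqM hy)⟩ : q.primeCompl)
  have hρ : ρ.comp (algebraMap P S) = algebraMap P (Localization.AtPrime q) :=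
    IsLocalization.lift_comp _
  have h3 : ρ.Flat := by
    letI := ρ.toAlgebra
    have : IsScalarTower P S (Localization.AtPrime q) := IsScalarTower.of_algebraMap_eq' hρ.symm
    have : Module.Flat P (Localization.AtPrime q) := IsLocalization.flat _ q.primeCompl
    exact (Module.flat_iff_of_isLocalization S M.primeCompl (Localization.AtPrime q)).2 inferInstance
  have h4 := RingHom.Flat.comp h2 h3
  convert h4 using 1
  refine RingHom.ext fun x => ?_
  show algebraMap P _ (φ x) = ρ (ψ (algebraMap B R x))
  rw [Localization.localRingHom_to_map]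
  exact (RingHom.congr_fun hρ (φ x)).symm

end Groth.Agent.RelGCI
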