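/-
`A[x]/(f)` with `c` equations and fibres of dimension at most `n - c` is flat.
-/
import Groth.Agent.RelGCI.Field
import Groth.Agent.SquarePres.Flat
import Groth.Agent.FlatOpen.FibreAPI
import Mathlib.RingTheory.Flat.Localization
import Mathlib.RingTheory.LocalRing.ResidueField.Ideal
import Mathlib.RingTheory.FinitePresentation

open MvPolynomial TensorProduct Groth.Agent.SquarePres

universe u

namespace Groth.Agent.RelGCI

variable {A : Type u} [CommRing A] {n c : ℕ}

/-- `y ↦ f` is flat at the zeros of `f` where the fibre is finite. -/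
theorem flat_aeval_localization (hc : c ≤ n) (f : Fin c → MvPolynomial (Fin n) A)
    (hqf : ∀ (p : Ideal A) [p.IsPrime], ringKrullDim (MvPolynomial (Fin n) p.ResidueField ⧸
      Ideal.span (Set.range fun i => map (algebraMap A p.ResidueField) (f i))) ≤
        ((n - c : ℕ) : WithBot ℕ∞))
    (Q : Ideal (MvPolynomial (Fin n) A)) [Q.IsPrime] (hQf : ∀ i, f i ∈ Q) :
    ((algebraMap (MvPolynomial (Fin n) A) (Localization.AtPrime Q)).comp
      (aeval (fun i => f i.down) :
        MvPolynomial (ULift.{u} (Fin c)) A →ₐ[A] MvPolynomial (Fin n) A).toRingHom).Flat := by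
  classical
  let P := MvPolynomial (Fin n) A
  let σ := ULift.{u} (Fin c)
  let B := MvPolynomial σ A
  let φ : B →ₐ[A] P := aeval fun i => f i.down
  letI : Algebra B P := φ.toRingHom.toAlgebra
  have : IsScalarTower A B P := IsScalarTower.of_algebraMap_eq fun a => (φ.commutes a).symm
  have : Algebra.FinitePresentation B P :=
    Algebra.FinitePresentation.of_restrict_scalars_finitePresentation A B P
  -- the point of the fibre
  let p : Ideal A := Q.comap (algebraMap A P)
  let κ := p.ResidueField
  let L := FractionRing (P ⧸ Q)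
  let toL : P →+* L := (algebraMap (P ⧸ Q) L).comp (Ideal.Quotient.mk Q)
  have htoL : ∀ x, toL x = 0 ↔ x ∈ Q := fun x => by
    simp [toL, Ideal.Quotient.eq_zero_iff_mem]
  let κL : κ →+* L := Ideal.ResidueField.lift p (toL.comp (algebraMap A P))
    (fun a ha => (htoL _).2 ha) (fun a ha => Ne.isUnit fun h => ha ((htoL _).1 h))
  let g : MvPolynomial (Fin n) κ →+* L := eval₂Hom κL fun i => toL (X i)
  let π : P →+* MvPolynomial (Fin n) κ := map (algebraMap A κ)
  have hgπ : ∀ x, g (π x) = toL x := by
    intro x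
    have : g.comp π = toL := MvPolynomial.ringHom_ext
      (fun a => by simp only [g, π, κL, RingHom.comp_apply, map_C, eval₂Hom_C]; exact Ideal.ResidueField.lift_algebraMap _ _ _ _ a) (fun i => by simp [g, π])
    exact RingHom.congr_fun this x
  let q : Ideal (MvPolynomial (Fin n) κ) := RingHom.ker g
  have hq : q.IsPrime := RingHom.ker_isPrime g
  have hqQ : q.comap π = Q := by
    ext x
    rw [Ideal.mem_comap, RingHom.mem_ker, hgπ, htoL]
  have := hqf p
  have hqf' : ∀ i, π (f i) ∈ q := fun i => by
    rw [← Ideal.mem_comap, hqQ]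
    exact hQf i
  let PQ := Localization.AtPrime Q
  let Sb := Localization.AtPrime q
  let θ : PQ →+* Sb := Localization.localRingHom Q q π hqQ.symm
  have hθπ : ∀ x, θ (algebraMap P PQ x) = algebraMap _ Sb (π x) :=
    Localization.localRingHom_to_map Q q π hqQ.symm
  -- elements of `κ[x]` as fractions
  have hfrac : ∀ y : MvPolynomial (Fin n) κ, ∃ (x : P) (a : A), a ∉ p ∧
      π (C a) * y = π x := by
    intro y
    induction y using MvPolynomial.induction_on with
    | C c =>
      obtain ⟨a, ⟨s, hs⟩, rfl⟩ := IsLocalization.exists_mk'_eq (nonZeroDivisors (A ⧸ p)) c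
      obtain ⟨a, rfl⟩ := Ideal.Quotient.mk_surjective a
      obtain ⟨s, rfl⟩ := Ideal.Quotient.mk_surjective s
      refine ⟨C a, s, fun h => nonZeroDivisors.ne_zero hs (Ideal.Quotient.eq_zero_iff_mem.2 h), ?_⟩
      rw [show π (C s) = C (algebraMap A κ s) from map_C _ _, show π (C a) = C (algebraMap A κ a)
        from map_C _ _, ← map_mul, IsScalarTower.algebraMap_apply A (A ⧸ p) κ s,
        IsScalarTower.algebraMap_apply A (A ⧸ p) κ a, Ideal.Quotient.algebraMap_eq,
        IsLocalization.mk'_spec'_mk κ]
    | add y y' hy hy' =>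
      obtain ⟨x, a, ha, h⟩ := hy
      obtain ⟨x', a', ha', h'⟩ := hy'
      refine ⟨C a' * x + C a * x', a * a', fun hm => (Ideal.IsPrime.mem_or_mem inferInstance hm).elim ha ha', ?_⟩
      simp only [map_add, map_mul, ← h, ← h']
      ring
    | mul_X y i hy =>
      obtain ⟨x, a, ha, h⟩ := hy
      refine ⟨x * X i, a, ha, ?_⟩
      rw [map_mul π, ← h, ← mul_assoc, show π (X i) = X i from map_X _ _]
  have hCa : ∀ a, a ∉ p → (C a : P) ∈ Q.primeCompl := fun a ha => ha
  have hθs : Function.Surjective θ := by
    intro z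
    obtain ⟨y, ⟨t, ht⟩, rfl⟩ := IsLocalization.exists_mk'_eq q.primeCompl z
    obtain ⟨x, a, ha, hx⟩ := hfrac y
    obtain ⟨x', a', ha', hx'⟩ := hfrac t
    have hden : C a * x' ∈ Q.primeCompl := by
      refine Q.primeCompl.mul_mem (hCa a ha) ?_
      intro hm
      have : π x' ∈ q := by rw [← Ideal.mem_comap, hqQ]; exact hm
      rw [← hx'] at this
      rcases hq.mem_or_mem this with h | h
      · exact hCa a' ha' (by rw [← hqQ]; exact h)
      · exact ht h
    refine ⟨IsLocalization.mk' PQ (C a' * x) ⟨_, hden⟩, ?_⟩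
    rw [Localization.localRingHom_mk', IsLocalization.mk'_eq_iff_eq]
    congr 1
    change t * π (C a' * x) = π (C a * x') * y
    rw [map_mul, map_mul, ← hx, ← hx']
    ring
  let Y : Ideal B := p.map (algebraMap A B)
  have hθker : RingHom.ker θ ≤ Y.map (algebraMap B PQ) := by
    intro z hz
    obtain ⟨x, s, rfl⟩ := IsLocalization.exists_mk'_eq Q.primeCompl z
    rw [RingHom.mem_ker, Localization.localRingHom_mk', IsLocalization.mk'_eq_zero_iff] at hz
    obtain ⟨⟨u, hu⟩, hux⟩ := hz
    have hx0 : π x = 0 := by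
      rcases mul_eq_zero.1 hux with h | h
      · exact absurd (by rw [show u = 0 from h]; exact q.zero_mem : u ∈ q) hu
      · exact h
    have hxp : x ∈ p.map (algebraMap A P) := by
      rw [show p = RingHom.ker (algebraMap A κ) from (Ideal.ker_algebraMap_residueField p).symm,
        algebraMap_eq, ← MvPolynomial.ker_map]
      exact hx0
    rw [IsLocalization.mk'_eq_mul_mk'_one (S := PQ) x s, Ideal.map_map,
      ← IsScalarTower.algebraMap_eq A B PQ, IsScalarTower.algebraMap_eq A P PQ, ← Ideal.map_map]
    exact Ideal.mul_mem_right _ _ (Ideal.mem_map_of_mem _ hxp)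
  -- the fibre
  have hY : ∀ b ∈ Y, π (φ b) = 0 := by
    intro b hb
    induction hb using Submodule.span_induction with
    | mem b hb =>
      obtain ⟨a, ha, rfl⟩ := hb
      rw [AlgHom.commutes]
      change π (C a) = 0
      rw [show π (C a) = C (algebraMap A κ a) from map_C _ _,
        Ideal.algebraMap_residueField_eq_zero.2 ha, map_zero]
    | zero => simp
    | add b c _ _ h h' => simp [h, h']
    | smul c b _ h => simp [h]
  let toSb : B ⧸ Y →+* Sb := Ideal.Quotient.lift Y
    (((algebraMap _ Sb).comp π).comp φ.toRingHom) fun b hb => by simp [hY b hb]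
  letI : Algebra (B ⧸ Y) Sb := toSb.toAlgebra
  have hflatSb : Module.Flat (B ⧸ Y) Sb := by
    have hd : ringKrullDim (MvPolynomial (Fin n) κ ⧸ Ideal.span (Set.range fun i : σ => π (f i.down))) ≤
        ((n - c : ℕ) : WithBot ℕ∞) := by
      rw [show (fun i : σ => π (f i.down)) = (fun i => π (f i)) ∘ ULift.down from rfl,
        Function.Surjective.range_comp (fun i => ⟨⟨i⟩, rfl⟩)]
      exact hqf p
    have h1 := flat_field hc (fun i : σ => π (f i.down)) q (fun i => hqf' i.down) hd
    -- `B ⧸ Y = (A/p)[y] → κ[y]` is a localization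
    have hYe : Y = RingHom.ker (map (σ := σ) (Ideal.Quotient.mk p)) := by
      rw [MvPolynomial.ker_map, Ideal.mk_ker]
      rfl
    let e : B ⧸ Y ≃+* MvPolynomial σ (A ⧸ p) :=
      (Ideal.quotEquivOfEq hYe).trans (RingHom.quotientKerEquivOfSurjective
        (MvPolynomial.map_surjective (σ := σ) _ Ideal.Quotient.mk_surjective))
    have h2 : (map (σ := σ) (algebraMap (A ⧸ p) κ)).Flat := by
      letI : Algebra (MvPolynomial σ (A ⧸ p)) (MvPolynomial σ κ) :=
        (map (σ := σ) (algebraMap (A ⧸ p) κ)).toAlgebra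
      have := MvPolynomial.isLocalization (σ := σ) (nonZeroDivisors (A ⧸ p)) κ
      have : IsLocalization ((nonZeroDivisors (A ⧸ p)).map (C : A ⧸ p →+* MvPolynomial σ (A ⧸ p)))
          (MvPolynomial σ κ) := this
      exact RingHom.flat_algebraMap_iff.2 (IsLocalization.flat (MvPolynomial σ κ)
        ((nonZeroDivisors (A ⧸ p)).map (C : A ⧸ p →+* MvPolynomial σ (A ⧸ p))))
    have h3 : toSb.Flat := by
      have := ((RingHom.Flat.of_bijective (f := e.toRingHom) e.bijective).comp h2).comp
        h1
      convert this using 1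
      refine Ideal.Quotient.ringHom_ext (MvPolynomial.ringHom_ext (fun a => ?_) fun i => ?_)
      · change algebraMap _ Sb (π (φ (C a))) = algebraMap _ Sb
          (aeval (fun i : σ => π (f i.down)) (map (algebraMap (A ⧸ p) κ)
            (map (Ideal.Quotient.mk p) (C a : B))))
        rw [map_C, map_C, show φ (C a) = algebraMap A P a from φ.commutes a, aeval_C,
          show algebraMap (A ⧸ p) κ (Ideal.Quotient.mk p a) = algebraMap A κ a from
            (IsScalarTower.algebraMap_apply A (A ⧸ p) κ a).symm]
        exact congrArg _ (map_C _ _)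
      · change algebraMap _ Sb (π (φ (X i))) = algebraMap _ Sb
          (aeval (fun i : σ => π (f i.down)) (map (algebraMap (A ⧸ p) κ)
            (map (Ideal.Quotient.mk p) (X i : B))))
        rw [map_X, map_X, show φ (X i) = f i.down from aeval_X _ i, aeval_X]
    exact h3
  obtain ⟨efib⟩ := nonempty_tensor_equiv (B := B) (A := B ⧸ Y) Ideal.Quotient.mk_surjective θ hθs
    (fun b => (hθπ (φ b)).trans rfl) (by
      rw [show RingHom.ker (algebraMap B (B ⧸ Y)) = Y from Ideal.mk_ker]
      exact hθker)
  let eQ : LocalizedModule Q.primeCompl P ≃ₗ[P] PQ :=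
    IsLocalizedModule.iso Q.primeCompl (Algebra.linearMap P PQ)
  have hflatA : FlatCA.FlatAt A Q P := by
    have : Module.Flat P PQ := IsLocalization.flat PQ Q.primeCompl
    have : Module.Flat A PQ := Module.Flat.trans A P PQ
    exact Module.Flat.of_linearEquiv (eQ.restrictScalars A)
  have hB : FlatCA.FlatAt B Q P :=
    FlatOpen.fibre_flat_criterion A B P P Q hflatA Y rfl <|
      Module.Flat.of_linearEquiv ((AlgebraTensorModule.congr (LinearEquiv.refl (B ⧸ Y) (B ⧸ Y))
        (eQ.restrictScalars B)).trans efib)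
  have hBPQ : Module.Flat B PQ := by
    have : Module.Flat B (LocalizedModule Q.primeCompl P) := hB
    exact Module.Flat.of_linearEquiv (eQ.restrictScalars B).symm
  have h' : (algebraMap B PQ).Flat := RingHom.flat_algebraMap_iff.2 hBPQ
  exact h'

/-- `A[x]/(f)` is flat at the points where the fibre is finite. -/
theorem flat_localization (hc : c ≤ n) (f : Fin c → MvPolynomial (Fin n) A)
    (hqf : ∀ (p : Ideal A) [p.IsPrime], ringKrullDim (MvPolynomial (Fin n) p.ResidueField ⧸
      Ideal.span (Set.range fun i => map (algebraMap A p.ResidueField) (f i))) ≤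
        ((n - c : ℕ) : WithBot ℕ∞))
    (Qb : Ideal (MvPolynomial (Fin n) A ⧸ Ideal.span (Set.range f))) [Qb.IsPrime] :
    Module.Flat A (Localization.AtPrime Qb) := by
  classical
  let P := MvPolynomial (Fin n) A
  let I₀ : Ideal P := Ideal.span (Set.range f)
  let Q : Ideal P := Qb.comap (Ideal.Quotient.mk I₀)
  have hQf : ∀ i, f i ∈ Q := fun i => by
    rw [Ideal.mem_comap, Ideal.Quotient.eq_zero_iff_mem.2 (Ideal.subset_span (Set.mem_range_self i))]
    exact Qb.zero_mem
  have : Algebra.FinitePresentation A A := inferInstance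
  let σ := ULift.{u} (Fin c)
  let B := MvPolynomial σ A
  let φ : B →ₐ[A] P := aeval fun i => f i.down
  letI : Algebra B P := φ.toRingHom.toAlgebra
  have : IsScalarTower A B P := IsScalarTower.of_algebraMap_eq fun a => (φ.commutes a).symm
  let PQ := Localization.AtPrime Q
  have hBPQ : Module.Flat B PQ :=
    RingHom.flat_algebraMap_iff.1
      (show (algebraMap B PQ).Flat from flat_aeval_localization hc f hqf Q hQf)
  -- base change to the zero section
  let z : B →ₐ[A] A := aeval fun _ => (0 : A)
  letI : Algebra B A := z.toRingHom.toAlgebra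
  let θ' : PQ →+* Localization.AtPrime Qb :=
    Localization.localRingHom Q Qb (Ideal.Quotient.mk I₀) rfl
  have hθ' : ∀ x, θ' (algebraMap P PQ x) = algebraMap _ _ (Ideal.Quotient.mk I₀ x) :=
    Localization.localRingHom_to_map Q Qb (Ideal.Quotient.mk I₀) rfl
  have hz : ∀ b : B, Ideal.Quotient.mk I₀ (φ b) = algebraMap A _ (z b) := by
    intro b
    induction b using MvPolynomial.induction_on with
    | C a =>
      rw [show φ (C a) = algebraMap A P a from φ.commutes a, show z (C a) = a from z.commutes a]
      rfl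
    | add b c h h' => simp [h, h']
    | mul_X b i h =>
      rw [map_mul, map_mul, map_mul, map_mul, h, show φ (X i) = f i.down from aeval_X _ i,
        show z (X i) = 0 from aeval_X _ i,
        Ideal.Quotient.eq_zero_iff_mem.2 (Ideal.subset_span (Set.mem_range_self i.down)),
        map_zero, mul_zero]
  obtain ⟨e0⟩ := nonempty_tensor_equiv (B := B) (A := A) (S := PQ) (S' := Localization.AtPrime Qb) (fun a => ⟨C a, by
      change z (C a) = a
      exact z.commutes a⟩) θ' (by
      intro w
      obtain ⟨c, ⟨t, ht⟩, rfl⟩ := IsLocalization.exists_mk'_eq (S := Localization.AtPrime Qb) Qb.primeCompl w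
      obtain ⟨x, rfl⟩ := Ideal.Quotient.mk_surjective c
      obtain ⟨t, rfl⟩ := Ideal.Quotient.mk_surjective t
      exact ⟨IsLocalization.mk' PQ x ⟨t, ht⟩,
        Localization.localRingHom_mk' Q Qb (Ideal.Quotient.mk I₀) rfl x ⟨t, ht⟩⟩)
    (fun b => by
      change θ' (algebraMap P PQ (φ b)) = _
      rw [hθ', hz, ← IsScalarTower.algebraMap_apply]
      rfl)
    (by
      intro w hw
      obtain ⟨x, s, rfl⟩ := IsLocalization.exists_mk'_eq (S := PQ) Q.primeCompl w
      rw [RingHom.mem_ker, Localization.localRingHom_mk', IsLocalization.mk'_eq_zero_iff] at hw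
      obtain ⟨⟨u, hu⟩, hux⟩ := hw
      obtain ⟨u, rfl⟩ := Ideal.Quotient.mk_surjective u
      rw [← map_mul, Ideal.Quotient.eq_zero_iff_mem] at hux
      have hle : I₀.map (algebraMap P PQ) ≤ (RingHom.ker (algebraMap B A)).map (algebraMap B PQ) := by
        rw [Ideal.map_span, Ideal.span_le]
        rintro _ ⟨_, ⟨i, rfl⟩, rfl⟩
        have : f i = φ (X ⟨i⟩) := (aeval_X (fun j : σ => f j.down) (⟨i⟩ : σ)).symm
        rw [this]
        exact Ideal.mem_map_of_mem (algebraMap B PQ) (show z (X ⟨i⟩) = 0 from aeval_X _ (⟨i⟩ : σ))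
      refine hle ?_
      have : IsLocalization.mk' PQ x s = algebraMap P PQ (u * x) *
          IsLocalization.mk' PQ 1 (⟨u, hu⟩ * s) := by
        rw [IsLocalization.mul_mk'_eq_mk'_of_mul, mul_one, IsLocalization.mk'_eq_iff_eq]
        congr 1
        simp only [Submonoid.coe_mul]
        ring
      rw [this]
      exact Ideal.mul_mem_right _ _ (Ideal.mem_map_of_mem _ hux))
  exact Module.Flat.of_linearEquiv e0.symm

end Groth.Agent.RelGCI
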