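/-
Relative global complete intersections: flatness, syntomicity, regular sequences.
-/
import Groth.Agent.RelGCI.Flat
import Groth.Agent.SquarePres.XRegular
import Groth.Agent.Synt44.LCIOver
import Groth.Agent.KReg44.Weakly
import Groth.Agent.KReg44.Ideal
import Groth.Prelude.Def_RegImm

open MvPolynomial TensorProduct RingTheory.Sequence

universe u

namespace Groth.Agent.RelGCI

variable {A : Type u} [CommRing A] {n c : ℕ} (F : Fin c → MvPolynomial (Fin n) A)

/-- The fibre ring as a quotient of a polynomial ring over the residue field. -/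
theorem nonempty_fiberEquiv (p : Ideal A) [p.IsPrime] :
    Nonempty (p.Fiber (Synt.RelGCIRing A n c F) ≃ₐ[p.ResidueField]
      (MvPolynomial (Fin n) p.ResidueField ⧸
        Ideal.span (Set.range fun i => map (algebraMap A p.ResidueField) (F i)))) := by
  let κ := p.ResidueField
  let J := Ideal.span (Set.range fun i => MvPolynomial.map (algebraMap A κ) (F i))
  let D := Synt.RelGCIRing A n c F
  let mkD := Ideal.Quotient.mkₐ A (Ideal.span (Set.range F))
  let π : MvPolynomial (Fin n) A →ₐ[A] MvPolynomial (Fin n) κ :=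
    { toRingHom := MvPolynomial.map (algebraMap A κ)
      commutes' := fun a => by
        show MvPolynomial.map (algebraMap A κ) (C a) = _
        rw [map_C]; rfl }
  let toQ : D →ₐ[A] MvPolynomial (Fin n) κ ⧸ J :=
    Ideal.Quotient.liftₐ _ ((Ideal.Quotient.mkₐ A J).comp π) fun x hx => by
      have := Ideal.mem_map_of_mem (MvPolynomial.map (algebraMap A κ)) hx
      rw [Ideal.map_span, ← Set.range_comp] at this
      exact Ideal.Quotient.eq_zero_iff_mem.2 this
  let Φ : κ ⊗[A] D →ₐ[κ] MvPolynomial (Fin n) κ ⧸ J :=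
    Algebra.TensorProduct.lift (Algebra.ofId κ _) toQ fun _ _ => Commute.all _ _
  let Ψ₀ : MvPolynomial (Fin n) κ →ₐ[κ] κ ⊗[A] D :=
    aeval fun i => (1 : κ) ⊗ₜ[A] mkD (X i)
  have hΨ : ∀ x : MvPolynomial (Fin n) A, Ψ₀ (π x) = (1 : κ) ⊗ₜ[A] mkD x := by
    intro x
    have : (Ψ₀.restrictScalars A).comp π =
        (Algebra.TensorProduct.includeRight (R := A) (A := κ)).comp mkD := by
      refine MvPolynomial.algHom_ext fun i => ?_
      show Ψ₀ (MvPolynomial.map (algebraMap A κ) (X i)) = _
      rw [map_X]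
      simp [Ψ₀]
    exact AlgHom.congr_fun this x
  let Ψ : MvPolynomial (Fin n) κ ⧸ J →ₐ[κ] κ ⊗[A] D :=
    Ideal.Quotient.liftₐ J Ψ₀ fun x hx => by
      have h : J ≤ RingHom.ker Ψ₀ := by
        refine Ideal.span_le.2 ?_
        rintro _ ⟨i, rfl⟩
        show Ψ₀ (π (F i)) = 0
        rw [hΨ, show mkD (F i) = 0 from
          Ideal.Quotient.eq_zero_iff_mem.2 (Ideal.subset_span (Set.mem_range_self i)),
          TensorProduct.tmul_zero]
      exact h hx
  refine ⟨AlgEquiv.ofAlgHom Φ Ψ ?_ ?_⟩
  · refine Ideal.Quotient.algHom_ext κ (MvPolynomial.algHom_ext fun i => ?_)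
    show Φ (Ψ₀ (X i)) = Ideal.Quotient.mk J (X i)
    simp only [Ψ₀, aeval_X, Φ, Algebra.TensorProduct.lift_tmul, map_one, one_mul]
    show Ideal.Quotient.mk J (MvPolynomial.map (algebraMap A κ) (X i)) = _
    rw [map_X]
  · refine Algebra.TensorProduct.ext (Subsingleton.elim _ _) ?_
    refine AlgHom.ext fun y => ?_
    obtain ⟨x, rfl⟩ := Ideal.Quotient.mk_surjective y
    show Ψ (Φ (1 ⊗ₜ mkD x)) = (1 : κ) ⊗ₜ[A] mkD x
    rw [show Φ (1 ⊗ₜ mkD x) = Ideal.Quotient.mk J (π x) from
      (Algebra.TensorProduct.lift_tmul ..).trans (by rw [map_one, one_mul]; rfl)]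
    exact hΨ x

variable {F} (h : Synt.IsRelGCI A n c F)

theorem nontrivial_fiber (Qb : Ideal (Synt.RelGCIRing A n c F)) [Qb.IsPrime] :
    Nontrivial ((Qb.comap (algebraMap A _)).Fiber (Synt.RelGCIRing A n c F)) := by
  let D := Synt.RelGCIRing A n c F
  let p := Qb.comap (algebraMap A D)
  let g : p.ResidueField ⊗[A] D →ₐ[A] Qb.ResidueField :=
    Algebra.TensorProduct.lift (Ideal.ResidueField.mapₐ p Qb (Algebra.ofId A D) rfl)
      (IsScalarTower.toAlgHom A D Qb.ResidueField) fun _ _ => Commute.all _ _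
  exact g.toRingHom.domain_nontrivial

include h in
theorem le_of_prime (Qb : Ideal (Synt.RelGCIRing A n c F)) [Qb.IsPrime] : c ≤ n :=
  (h ⟨Qb.comap (algebraMap A _), inferInstance⟩ (nontrivial_fiber Qb)).1

include h in
theorem dim_fibre (p : Ideal A) [p.IsPrime] : ringKrullDim (MvPolynomial (Fin n) p.ResidueField ⧸
      Ideal.span (Set.range fun i => map (algebraMap A p.ResidueField) (F i))) ≤
        ((n - c : ℕ) : WithBot ℕ∞) := by
  obtain ⟨e⟩ := nonempty_fiberEquiv F p
  rw [← ringKrullDim_eq_of_ringEquiv (R := p.Fiber (Synt.RelGCIRing A n c F)) e.toRingEquiv]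
  by_cases hnt : Nontrivial (p.Fiber (Synt.RelGCIRing A n c F))
  · exact ((h ⟨p, inferInstance⟩ hnt).2).le
  · have : Subsingleton (p.Fiber (Synt.RelGCIRing A n c F)) := not_nontrivial_iff_subsingleton.1 hnt
    rw [ringKrullDim_eq_bot_of_subsingleton]
    exact bot_le

include h in
theorem flat : Module.Flat A (Synt.RelGCIRing A n c F) := by
  let D := Synt.RelGCIRing A n c F
  refine Module.flat_of_isLocalized_maximal (S := D) (R := A) (M := D)
    (fun P _ => Localization.AtPrime P) (fun P _ => Algebra.linearMap D _) fun P hP => ?_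
  exact flat_localization (le_of_prime h P) F (fun p _ => dim_fibre h p) P

include h in
theorem isSyntomic : Synt.IsSyntomic A (Synt.RelGCIRing A n c F) := by
  refine ⟨flat h, Algebra.FinitePresentation.quotient (Submodule.fg_span (Set.finite_range F)),
    fun p => ?_⟩
  let κ := p.asIdeal.ResidueField
  obtain ⟨e⟩ := nonempty_fiberEquiv F p.asIdeal
  refine Synt44.isLCIOver_of_equiv e.symm ⟨inferInstance, fun P => ⟨1, fun h1 => P.isPrime.ne_top
    ((Ideal.eq_top_iff_one _).2 h1), ?_⟩⟩
  let S := MvPolynomial (Fin n) κ ⧸ Ideal.span (Set.range fun i => map (algebraMap A κ) (F i))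
  let e1 : S ≃ₐ[κ] Localization.Away (1 : S) :=
    (IsLocalization.atUnits S (Submonoid.powers (1 : S)) (by
      rintro _ ⟨m, rfl⟩; simp)).restrictScalars κ
  refine Synt44.isGlobalCI_of_equiv e1 (Or.inr ?_)
  have : Nontrivial (p.asIdeal.Fiber (Synt.RelGCIRing A n c F)) := by
    have : Nontrivial S := ⟨⟨0, 1, fun h01 => P.isPrime.ne_top
      ((Ideal.eq_top_iff_one _).2 (h01 ▸ P.asIdeal.zero_mem))⟩⟩
    exact e.toEquiv.nontrivial
  obtain ⟨hc, hd⟩ := h p this
  exact ⟨n, c, hc, Ideal.Quotient.mkₐ κ _, fun i => map (algebraMap A κ) (F i),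
    Ideal.Quotient.mk_surjective, Ideal.mk_ker, by
      rw [← ringKrullDim_eq_of_ringEquiv (R := p.asIdeal.Fiber (Synt.RelGCIRing A n c F)) e.toRingEquiv]; exact hd⟩

include h in
/-- In the local ring at a point of the zero locus the equations are a regular sequence with flat
partial quotients. -/
theorem regular_local (Q : Ideal (MvPolynomial (Fin n) A)) [Q.IsPrime]
    (hQ : Ideal.span (Set.range F) ≤ Q) :
    IsRegular (Localization.AtPrime Q)
        ((List.ofFn F).map (algebraMap (MvPolynomial (Fin n) A) (Localization.AtPrime Q))) ∧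
      (∀ i ≤ c, Module.Flat A (Localization.AtPrime Q ⧸ Ideal.ofList
        (((List.ofFn F).take i).map (algebraMap (MvPolynomial (Fin n) A) (Localization.AtPrime Q))))) := by
  classical
  let P := MvPolynomial (Fin n) A
  let σ := ULift.{u} (Fin c)
  let B := MvPolynomial σ A
  let PQ := Localization.AtPrime Q
  have : (Q.map (Ideal.Quotient.mk (Ideal.span (Set.range F)))).IsPrime :=
    Ideal.map_isPrime_of_surjective Ideal.Quotient.mk_surjective (by rwa [Ideal.mk_ker])
  have hc := le_of_prime h (Q.map (Ideal.Quotient.mk (Ideal.span (Set.range F))))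
  have hfl := flat_aeval_localization hc F (fun p _ => dim_fibre h p) Q
    (fun i => hQ (Ideal.subset_span (Set.mem_range_self i)))
  let φ : B →ₐ[A] P := aeval fun i => F i.down
  let ψ : B →+* PQ := (algebraMap P PQ).comp φ.toRingHom
  let : Algebra B PQ := ψ.toAlgebra
  have : Module.Flat B PQ := RingHom.flat_algebraMap_iff.1 (show (algebraMap B PQ).Flat from hfl)
  have : IsScalarTower A B PQ := IsScalarTower.of_algebraMap_eq fun a => by
    show algebraMap A PQ a = algebraMap P PQ (φ (algebraMap A B a))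
    rw [AlgHom.commutes, ← IsScalarTower.algebraMap_apply]
  let l : List σ := List.ofFn fun i : Fin c => (⟨i⟩ : σ)
  have hl : l.Nodup := List.nodup_ofFn.2 fun a b hab => congrArg ULift.down hab
  have hmapX : (List.ofFn F).map (algebraMap P PQ) =
      (l.map (X : σ → B)).map (algebraMap B PQ) := by
    simp only [l, List.map_ofFn, Function.comp_def]
    refine congrArg List.ofFn (funext fun i => ?_)
    show algebraMap P PQ (F i) = algebraMap P PQ (φ (X ⟨i⟩))
    rw [show φ (X ⟨i⟩) = F i from aeval_X _ _]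
  refine ⟨?_, fun i hi => ?_⟩
  · refine ⟨?_, fun htop => ?_⟩
    · rw [hmapX]
      exact IsWeaklyRegular.of_flat (SquarePres.isWeaklyRegular_X l hl)
    · have hle : Ideal.ofList ((List.ofFn F).map (algebraMap P PQ)) • (⊤ : Submodule PQ PQ) ≤
          IsLocalRing.maximalIdeal PQ := by
        rw [smul_eq_mul, Ideal.mul_top, ← Ideal.map_ofList, ← KReg44.span_range_eq_ofList,
          ← Localization.AtPrime.map_eq_maximalIdeal]
        exact Ideal.map_mono hQ
      exact (IsLocalRing.maximalIdeal.isMaximal PQ).ne_top (top_le_iff.1 (htop.le.trans hle))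
  · rw [show ((List.ofFn F).take i).map (algebraMap P PQ) =
        ((l.take i).map (X : σ → B)).map (algebraMap B PQ) from by
      rw [List.map_take, hmapX, ← List.map_take, ← List.map_take], ← Ideal.map_ofList]
    let J : Ideal B := Ideal.ofList ((l.take i).map (X : σ → B))
    -- the quotient by some of the variables is flat
    let s : Set σ := {x | x ∈ l.take i}
    let ρ : B →ₐ[A] MvPolynomial σ A := aeval fun x => if x ∈ s then 0 else X x
    have hJ : J = Ideal.span ((X : σ → B) '' s) := by
      simp only [J, Ideal.ofList]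
      congr 1
      ext x
      simp [s, -List.map_take]
    have hρJ : J ≤ RingHom.ker ρ := by
      rw [hJ, Ideal.span_le]
      rintro _ ⟨x, hx, rfl⟩
      show ρ (X x) = 0
      rw [aeval_X]
      exact if_pos hx
    let r : B ⧸ J →ₐ[A] MvPolynomial σ A := Ideal.Quotient.liftₐ J ρ fun x hx => hρJ hx
    have hr : ∀ y : B ⧸ J, Ideal.Quotient.mkₐ A J (r y) = y := by
      intro y
      obtain ⟨y, rfl⟩ := Ideal.Quotient.mk_surjective y
      have : (Ideal.Quotient.mkₐ A J).comp ρ = Ideal.Quotient.mkₐ A J := by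
        refine MvPolynomial.algHom_ext fun x => ?_
        by_cases hx : x ∈ s
        · simp only [AlgHom.comp_apply, ρ, aeval_X, if_pos hx, map_zero]
          exact (Ideal.Quotient.eq_zero_iff_mem.2 (hJ ▸ Ideal.subset_span ⟨x, hx, rfl⟩)).symm
        · show Ideal.Quotient.mk J (ρ (X x)) = Ideal.Quotient.mk J (X x)
          rw [aeval_X, if_neg hx]
      exact AlgHom.congr_fun this y
    have : Module.Flat A (B ⧸ J) := by
      refine Module.Flat.of_retract r.toLinearMap (Ideal.Quotient.mkₐ A J).toLinearMap ?_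
      exact LinearMap.ext hr
    have h1 : Module.Flat (B ⧸ J) (PQ ⧸ J.map (algebraMap B PQ)) := by
      exact Module.Flat.of_linearEquiv
        (Algebra.TensorProduct.quotIdealMapEquivQuotTensor PQ J).toLinearEquiv
    have : IsScalarTower A (B ⧸ J) (PQ ⧸ J.map (algebraMap B PQ)) := ⟨fun a y z => by
      obtain ⟨y, rfl⟩ := Ideal.Quotient.mk_surjective y
      obtain ⟨z, rfl⟩ := Ideal.Quotient.mk_surjective z
      exact congrArg (Ideal.Quotient.mk (J.map (algebraMap B PQ))) (smul_assoc a y z)⟩
    exact Module.Flat.trans A (B ⧸ J) _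

include h in
theorem isKoszulRegularSeq :
    LCI.IsKoszulRegularSeq (MvPolynomial (Fin n) A) (List.ofFn F) := by
  refine KReg44.isKoszulRegularSeq_of_forall_prime fun Q hQ => ?_
  by_cases hFQ : Ideal.span (Set.range F) ≤ Q
  · exact KReg44.isKoszulRegularSeq_of_isWeaklyRegular _ _ rfl (regular_local h Q hFQ).1.1
  · refine KReg44.isKoszulRegularSeq_of_eq_top ?_
    obtain ⟨x, hx, hxQ⟩ := SetLike.not_le_iff_exists.1 hFQ
    rw [← Ideal.map_ofList, ← KReg44.span_range_eq_ofList]
    exact Ideal.eq_top_of_isUnit_mem _ (Ideal.mem_map_of_mem _ hx)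
      (IsLocalization.map_units (Localization.AtPrime Q) (⟨x, hxQ⟩ : Q.primeCompl))

include h in
theorem cotangent_basis :
    LinearIndependent (Synt.RelGCIRing A n c F)
        (fun i : Fin c => (Ideal.span (Set.range F)).toCotangent ⟨F i, Ideal.subset_span (Set.mem_range_self i)⟩) ∧
      Submodule.span (Synt.RelGCIRing A n c F) (Set.range
        (fun i : Fin c => (Ideal.span (Set.range F)).toCotangent ⟨F i, Ideal.subset_span (Set.mem_range_self i)⟩)) = ⊤ := by
  classical
  let I := Ideal.span (Set.range F)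
  let v : Fin c → I.Cotangent := fun i => I.toCotangent ⟨F i, Ideal.subset_span (Set.mem_range_self i)⟩
  have hsmul : ∀ (r : MvPolynomial (Fin n) A) (z : I.Cotangent),
      (Ideal.Quotient.mk I r : Synt.RelGCIRing A n c F) • z = r • z := fun r z => rfl
  have hqr := KReg44.isQuasiRegular F (isKoszulRegularSeq h)
  refine ⟨?_, ?_⟩
  · rw [Fintype.linearIndependent_iff]
    intro g hg i
    choose a ha using fun j => Ideal.Quotient.mk_surjective (g j)
    rw [← ha i, Ideal.Quotient.eq_zero_iff_mem]
    refine KReg44.coeff_of_isQuasiRegular hqr (c := a) ?_ i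
    have h2 : I.toCotangent (∑ j, a j • (⟨F j, Ideal.subset_span (Set.mem_range_self j)⟩ : I)) = 0 := by
      rw [map_sum, ← hg]
      refine Finset.sum_congr rfl fun j _ => ?_
      rw [map_smul, ← ha j, hsmul]
    rw [Ideal.toCotangent_eq_zero] at h2
    simpa [AddSubmonoidClass.coe_finset_sum] using h2
  · refine eq_top_iff.2 fun z _ => ?_
    obtain ⟨⟨y, hy⟩, rfl⟩ := I.toCotangent_surjective z
    obtain ⟨a, rfl⟩ := (Ideal.mem_span_range_iff_exists_fun).1 hy
    have : (⟨∑ j, a j * F j, hy⟩ : I) = ∑ j, a j • (⟨F j, Ideal.subset_span (Set.mem_range_self j)⟩ : I) := by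
      apply Subtype.ext
      simp [AddSubmonoidClass.coe_finset_sum]
    rw [this, map_sum]
    refine Submodule.sum_mem _ fun j _ => ?_
    rw [map_smul, ← hsmul]
    exact Submodule.smul_mem _ _ (Submodule.subset_span ⟨j, rfl⟩)

end Groth.Agent.RelGCI
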